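import Mathlib
import Cfsg.Agent.Classical.TwoRank

/-!
Sets of involutory maps closed under products up to a fixed square root of minus one, with any two members
commuting or anticommuting.
-/

set_option autoImplicit false

namespace Cfsg.Agent.Fg24.SignSets

open Module

universe u v

variable {K : Type u} [Field K]

/-- Involutory, pairwise commuting or anticommuting, closed under the normalised products. -/
structure IsSignSet {V : Type v} [AddCommGroup V] [Module K V] (i : K) (S : Set (Module.End K V)) : Prop where
  sq : ∀ x ∈ S, x * x = 1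
  pair : ∀ x ∈ S, ∀ y ∈ S, (x * y = y * x ∧ x * y ∈ S) ∨ (x * y = -(y * x) ∧ i • (x * y) ∈ S)

/-- A sign set in dimension d has at most `2^(d+1)` members, at most `2^d` for d = 1 and d ≥ 6. -/
theorem ncard_le (h2 : (2 : K) ≠ 0) {i : K} (hi : i * i = -1) :
    ∀ (d : ℕ) {V : Type v} [AddCommGroup V] [Module K V] [FiniteDimensional K V] (S : Set (Module.End K V)),
      S.Finite → finrank K V = d → IsSignSet i S →
      S.ncard ≤ 2 ^ (d + 1) ∧ ((d = 1 ∨ 6 ≤ d) → S.ncard ≤ 2 ^ d) := by
  intro d
  induction d using Nat.strong_induction_on with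
  | _ d ih =>
    intro V _ _ _ S hfin hd hS
    classical
    by_cases hab : ∀ x ∈ S, ∀ y ∈ S, x * y = y * x
    · obtain ⟨b, ε, hε, hε1⟩ := Classical.exists_sign_basis h2 d (fun a : S => (a.1 : V →ₗ[K] V)) hd
        (fun a c x => LinearMap.congr_fun (hab a.1 a.2 c.1 c.2) x)
        (fun a x => LinearMap.congr_fun (hS.sq a.1 a.2) x)
      have hinj : Function.Injective (fun (a : S) (j : Fin d) => decide (ε a j = 1)) := by
        intro a c hac
        refine Subtype.ext (b.ext fun j => ?_)
        have e : decide (ε a j = 1) = decide (ε c j = 1) := congrFun hac j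
        have e' : ε a j = ε c j := by
          have hne : (-1 : K) ≠ 1 := fun h => h2 (by linear_combination -h)
          rcases hε1 a j with h | h <;> rcases hε1 c j with h' | h' <;> rw [h, h'] at e ⊢ <;>
            simp [hne, hne.symm] at e
        exact (hε a j).trans ((congrArg (· • b j) e').trans (hε c j).symm)
      have hle : S.ncard ≤ 2 ^ d := by
        rw [← Nat.card_coe_set_eq]
        exact (Nat.card_le_card_of_injective _ hinj).trans_eq (by simp)
      exact ⟨hle.trans (Nat.pow_le_pow_right (by norm_num) d.le_succ), fun _ => hle⟩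
    push_neg at hab
    obtain ⟨x, hx, y, hy, hxy⟩ := hab
    have hanti : x * y = -(y * x) := by
      rcases hS.pair x hx y hy with h | h
      · exact absurd h.1 hxy
      · exact h.1
    have hxx : ∀ v, x (x v) = v := fun v => LinearMap.congr_fun (hS.sq x hx) v
    have hyy : ∀ v, y (y v) = v := fun v => LinearMap.congr_fun (hS.sq y hy) v
    have hxy' : ∀ v, x (y v) = -(y (x v)) := fun v => LinearMap.congr_fun hanti v
    set W : Submodule K V := LinearMap.ker (x - 1) with hW
    have hmW : ∀ v, v ∈ W ↔ x v = v := fun v => by
      rw [hW, LinearMap.mem_ker, LinearMap.sub_apply, sub_eq_zero]; rfl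
    let φ : (W × W) →ₗ[K] V := W.subtype.coprod ((y : V →ₗ[K] V).comp W.subtype)
    have hφ : ∀ p : W × W, φ p = (p.1 : V) + y (p.2 : V) := fun p => rfl
    have hφb : Function.Bijective φ := by
      constructor
      · rw [← LinearMap.ker_eq_bot, LinearMap.ker_eq_bot']
        rintro ⟨a, c⟩ h0
        rw [hφ] at h0
        have h1 := congrArg x h0
        rw [map_add, map_zero, (hmW _).1 a.2, hxy', (hmW _).1 c.2] at h1
        have ha : (2 : K) • (a : V) = 0 := by
          rw [two_smul]
          linear_combination (norm := abel) h0 + h1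
        have ha0 : (a : V) = 0 := (smul_eq_zero.1 ha).resolve_left h2
        rw [ha0, zero_add] at h0
        have hc0 : (c : V) = 0 := by rw [← hyy c, h0, map_zero]
        exact Prod.ext (Subtype.ext ha0) (Subtype.ext hc0)
      · intro v
        have ha : (2 : K)⁻¹ • (v + x v) ∈ W := (hmW _).2 (by rw [map_smul, map_add, hxx, add_comm])
        have hc : y ((2 : K)⁻¹ • (v - x v)) ∈ W := (hmW _).2 (by
          rw [hxy', map_smul, map_sub, hxx, ← map_neg, ← smul_neg, neg_sub])
        refine ⟨(⟨_, ha⟩, ⟨_, hc⟩), ?_⟩
        rw [hφ, hyy, ← smul_add, add_add_sub_cancel, ← two_smul K v, smul_smul, inv_mul_cancel₀ h2, one_smul]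
    set w := finrank K W with hw
    have hdw : d = 2 * w := by
      rw [← hd, ← (LinearEquiv.ofBijective φ hφb).finrank_eq, Module.finrank_prod]
      omega
    have hw0 : w ≠ 0 := by
      intro h0
      refine hxy (LinearMap.ext fun v => ?_)
      have : finrank K V = 0 := by omega
      haveI := Module.finrank_zero_iff.1 this
      exact Subsingleton.elim _ _
    let C : Set (Module.End K V) := {z ∈ S | z * x = x * z ∧ z * y = y * z}
    have hCres : ∀ z ∈ C, ∀ v ∈ W, z v ∈ W := fun z hz v hv => (hmW _).2 (by
      rw [show x (z v) = z (x v) from (LinearMap.congr_fun hz.2.1 v).symm, (hmW v).1 hv])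
    let res : C → Module.End K W := fun z => (z.1 : V →ₗ[K] V).restrict (hCres z.1 z.2)
    have hresv : ∀ (z : C) (v : W), ((res z v : W) : V) = z.1 v := fun z v => rfl
    have hresinj : Function.Injective res := by
      intro z z' h
      refine Subtype.ext (LinearMap.ext fun v => ?_)
      obtain ⟨⟨a, c⟩, rfl⟩ := hφb.2 v
      have e : ∀ u : W, z.1 (u : V) = z'.1 (u : V) := fun u => by
        rw [← hresv z u, ← hresv z' u, h]
      rw [hφ, map_add, map_add, e, show z.1 (y (c : V)) = y (z.1 (c : V)) from LinearMap.congr_fun z.2.2.2 _,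
        show z'.1 (y (c : V)) = y (z'.1 (c : V)) from LinearMap.congr_fun z'.2.2.2 _, e]
    have hCfin : C.Finite := hfin.subset fun z hz => hz.1
    haveI : Finite C := hCfin.to_subtype
    have hS' : IsSignSet i (Set.range res) := by
      constructor
      · rintro _ ⟨z, rfl⟩
        exact LinearMap.ext fun v => Subtype.ext (LinearMap.congr_fun (hS.sq z.1 z.2.1) (v : V))
      · rintro _ ⟨z, rfl⟩ _ ⟨z', rfl⟩
        rcases hS.pair z.1 z.2.1 z'.1 z'.2.1 with ⟨h, hm⟩ | ⟨h, hm⟩
        · refine Or.inl ⟨LinearMap.ext fun v => Subtype.ext (LinearMap.congr_fun h (v : V)),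
            ⟨⟨z.1 * z'.1, hm, ?_, ?_⟩, LinearMap.ext fun v => rfl⟩⟩
          · rw [mul_assoc, z'.2.2.1, ← mul_assoc, z.2.2.1, mul_assoc]
          · rw [mul_assoc, z'.2.2.2, ← mul_assoc, z.2.2.2, mul_assoc]
        · refine Or.inr ⟨LinearMap.ext fun v => Subtype.ext (LinearMap.congr_fun h (v : V)),
            ⟨⟨i • (z.1 * z'.1), hm, ?_, ?_⟩, LinearMap.ext fun v => rfl⟩⟩
          · rw [smul_mul_assoc, mul_smul_comm, mul_assoc, z'.2.2.1, ← mul_assoc, z.2.2.1, mul_assoc]
          · rw [smul_mul_assoc, mul_smul_comm, mul_assoc, z'.2.2.2, ← mul_assoc, z.2.2.2, mul_assoc]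
    have hrec := ih w (by omega) (Set.range res) (Set.finite_range _) hw.symm hS'
    rw [Set.ncard_range_of_injective hresinj] at hrec
    rw [Nat.card_coe_set_eq] at hrec
    -- at most four cosets
    have hsign : ∀ u ∈ S, ∀ z ∈ S, u * z = z * u ∨ u * z = -(z * u) := fun u hu z hz => by
      rcases hS.pair u hu z hz with h | h
      · exact Or.inl h.1
      · exact Or.inr h.1
    have hfib : S.ncard ≤ 4 * C.ncard := by
      rw [Set.ncard_eq_toFinset_card S hfin]
      let key : Module.End K V → Bool × Bool := fun z => (decide (z * x = x * z), decide (z * y = y * z))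
      refine (Finset.card_le_mul_card_image (f := key) hfin.toFinset C.ncard ?_).trans ?_
      · intro k hk
        obtain ⟨z₀, hz₀, rfl⟩ := Finset.mem_image.1 hk
        rw [Set.Finite.mem_toFinset] at hz₀
        rw [Set.ncard_eq_toFinset_card C hCfin]
        refine Finset.card_le_card_of_injOn (fun z => if z₀ * z = z * z₀ then z₀ * z else i • (z₀ * z)) ?_ ?_
        · intro z hz
          simp only [Finset.mem_coe, Finset.mem_filter, Set.Finite.mem_toFinset] at hz
          simp only [Finset.mem_coe, Set.Finite.mem_toFinset]
          obtain ⟨hzS, hzk⟩ := hz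
          have comm : ∀ u ∈ S, decide (z * u = u * z) = decide (z₀ * u = u * z₀) →
              (z₀ * z) * u = u * (z₀ * z) := by
            intro u hu he
            by_cases h : z₀ * u = u * z₀
            · have h' : z * u = u * z := of_decide_eq_true (he.trans (decide_eq_true h))
              rw [mul_assoc, h', ← mul_assoc, h, mul_assoc]
            · have h' : ¬ z * u = u * z := of_decide_eq_false (he.trans (decide_eq_false h))
              rw [mul_assoc, (hsign z hzS u hu).resolve_left h', mul_neg, ← mul_assoc,
                (hsign z₀ hz₀ u hu).resolve_left h, neg_mul, neg_neg, mul_assoc]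
          have cx := comm x hx (congrArg Prod.fst hzk)
          have cy := comm y hy (congrArg Prod.snd hzk)
          rcases hS.pair z₀ hz₀ z hzS with ⟨h, hm⟩ | ⟨h, hm⟩
          · rw [if_pos h]; exact ⟨hm, cx, cy⟩
          · have hne : ¬ z₀ * z = z * z₀ := by
              intro h'
              rw [h'] at h
              have : (2 : K) • (z * z₀) = 0 := by rw [two_smul]; linear_combination (norm := abel) h
              have h0 : z * z₀ = 0 := (smul_eq_zero.1 this).resolve_left h2
              have h1 : (1 : Module.End K V) = 0 := by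
                rw [← hS.sq z hzS]
                calc z * z = z * (z₀ * z₀) * z := by rw [hS.sq z₀ hz₀, mul_one]
                  _ = 0 := by rw [← mul_assoc, h0, zero_mul, zero_mul]
              exact hxy (by rw [← mul_one (x * y), h1, mul_zero, ← mul_one (y * x), h1, mul_zero])
            rw [if_neg hne]
            refine ⟨hm, ?_, ?_⟩
            · rw [smul_mul_assoc, mul_smul_comm, cx]
            · rw [smul_mul_assoc, mul_smul_comm, cy]
        · intro z hz z' hz' he
          simp only [Finset.mem_coe, Finset.mem_filter, Set.Finite.mem_toFinset] at hz hz'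
          simp only at he
          have hcancel : ∀ u u' : Module.End K V, z₀ * u = z₀ * u' → u = u' := fun u u' h => by
            rw [← one_mul u, ← one_mul u', ← hS.sq z₀ hz₀, mul_assoc, mul_assoc, h]
          have hbad : ∀ u ∈ S, ∀ u' ∈ S, z₀ * u ≠ i • (z₀ * u') := by
            intro u hu u' hu' h
            have h' : u = i • u' := hcancel _ _ (by rw [h, mul_smul_comm])
            have h1 : (1 : Module.End K V) = -1 := by
              calc (1 : Module.End K V) = u * u := (hS.sq u hu).symm
                _ = (i * i) • (u' * u') := by rw [h', smul_mul_smul_comm]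
                _ = -1 := by rw [hi, hS.sq u' hu', neg_smul, one_smul]
            have h0 : (1 : Module.End K V) = 0 := by
              have : (2 : K) • (1 : Module.End K V) = 0 := by
                rw [two_smul]; linear_combination (norm := abel) h1
              exact (smul_eq_zero.1 this).resolve_left h2
            exact hxy (by rw [← mul_one (x * y), h0, mul_zero, ← mul_one (y * x), h0, mul_zero])
          split_ifs at he with h1 h2'
          · exact hcancel _ _ he
          · exact absurd he (hbad z hz.1 z' hz'.1)
          · exact absurd he.symm (hbad z' hz'.1 z hz.1)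
          · have hi0 : i ≠ 0 := fun h => by rw [h, mul_zero] at hi; exact neg_ne_zero.2 one_ne_zero hi.symm
            exact hcancel _ _ (smul_right_injective _ hi0 he)
      · rw [mul_comm]
        exact Nat.mul_le_mul_right _ ((Finset.card_le_univ _).trans (by simp))
    rcases Nat.lt_or_ge w 2 with hw2 | hw2
    · have hw1 : w = 1 := by omega
      have := hrec.2 (Or.inl hw1)
      rw [hw1] at this hdw
      refine ⟨?_, fun h => by omega⟩
      rw [hdw]; omega
    · have h4 : 4 * C.ncard ≤ 2 ^ (w + 3) := by
        calc 4 * C.ncard ≤ 4 * 2 ^ (w + 1) := Nat.mul_le_mul_left _ hrec.1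
          _ = 2 ^ (w + 3) := by ring
      refine ⟨(hfib.trans h4).trans (Nat.pow_le_pow_right (by norm_num) (by omega)), fun h => ?_⟩
      exact (hfib.trans h4).trans (Nat.pow_le_pow_right (by norm_num) (by omega))

end Cfsg.Agent.Fg24.SignSets
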