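import Mathlib
import Cfsg.Agent.Fg24.SignSets.Basic
import Cfsg.Agent.Classical.SympGroup

/-!
Elementary abelian 2-subgroups of the projective symplectic group in odd characteristic have order below `2^(2m)`.
-/

set_option autoImplicit false

namespace Cfsg.Agent.Fg24.SignSets

open Module

variable {F : Type*} [Field F] [Fintype F] {m : ℕ}

/-- The negative identity of the symplectic group. -/
def negOne (F : Type*) [Field F] (m : ℕ) : Matrix.symplecticGroup (Fin m) F :=
  ⟨-1, SymplecticGroup.neg_mem (one_mem _)⟩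

theorem negOne_mem_center : negOne F m ∈ Subgroup.center (Matrix.symplecticGroup (Fin m) F) :=
  Subgroup.mem_center_iff.2 fun g => Subtype.ext (by
    show g.1 * (-1) = (-1) * g.1
    rw [mul_neg, neg_mul, mul_one, one_mul])

theorem negOne_ne_one (h2 : (2 : F) ≠ 0) (hm : 1 ≤ m) : negOne F m ≠ 1 := fun h => by
  have h' := congrFun (congrFun (congrArg Subtype.val h) (Sum.inl ⟨0, hm⟩)) (Sum.inl ⟨0, hm⟩)
  simp [negOne] at h'
  exact h2 (by linear_combination -h')

theorem center_cases (hodd : Odd (Fintype.card F)) (hm : 1 ≤ m) {z : Matrix.symplecticGroup (Fin m) F}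
    (hz : z ∈ Subgroup.center (Matrix.symplecticGroup (Fin m) F)) : z = 1 ∨ z = negOne F m := by
  have hc : Nat.card (Subgroup.center (Matrix.symplecticGroup (Fin m) F)) = 2 := by
    rw [Classical.card_center_symplectic hm]
    obtain ⟨r, hr⟩ := hodd
    exact Nat.gcd_eq_left ⟨r, by omega⟩
  obtain ⟨w, -, huniq⟩ := (Nat.card_eq_two_iff' (1 : Subgroup.center (Matrix.symplecticGroup (Fin m) F))).1 hc
  by_cases h : z = 1
  · exact Or.inl h
  · refine Or.inr (congrArg Subtype.val ((huniq ⟨z, hz⟩ fun e => h (congrArg Subtype.val e)).trans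
      (huniq ⟨negOne F m, negOne_mem_center⟩ fun e => ?_).symm))
    exact negOne_ne_one (Classical.two_ne_zero_of_odd hodd) hm (congrArg Subtype.val e)

theorem card_lt_of_elementary (hodd : Odd (Fintype.card F)) (hm : 3 ≤ m) (A : Subgroup (Cfsg.PSp m F))
    (hcomm : ∀ a ∈ A, ∀ c ∈ A, a * c = c * a) (hsq : ∀ a ∈ A, a * a = 1) : Nat.card A < 2 ^ (2 * m) := by
  classical
  let G := Matrix.symplecticGroup (Fin m) F
  let E : Subgroup G := A.comap (QuotientGroup.mk' (Subgroup.center G))
  have h2 : (2 : F) ≠ 0 := Classical.two_ne_zero_of_odd hodd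
  have hm1 : 1 ≤ m := by omega
  have hEA : ∀ e ∈ E, (QuotientGroup.mk e : Cfsg.PSp m F) ∈ A := fun e he => he
  have hEsq : ∀ e ∈ E, e.1 * e.1 = 1 ∨ e.1 * e.1 = -1 := fun e he => by
    have : e * e ∈ Subgroup.center G := (QuotientGroup.eq_one_iff _).1 (by
      rw [QuotientGroup.mk_mul]; exact hsq _ (hEA e he))
    rcases center_cases hodd hm1 this with h | h
    · exact Or.inl (congrArg Subtype.val h)
    · exact Or.inr (congrArg Subtype.val h)
  have hEcomm : ∀ e ∈ E, ∀ e' ∈ E, e.1 * e'.1 = e'.1 * e.1 ∨ e.1 * e'.1 = -(e'.1 * e.1) := fun e he e' he' => by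
    have : (e' * e)⁻¹ * (e * e') ∈ Subgroup.center G := (QuotientGroup.eq_one_iff _).1 (by
      rw [QuotientGroup.mk_mul, QuotientGroup.mk_inv, QuotientGroup.mk_mul, QuotientGroup.mk_mul,
        hcomm _ (hEA e he) _ (hEA e' he'), inv_mul_cancel])
    rcases center_cases hodd hm1 this with h | h
    · exact Or.inl (congrArg Subtype.val (inv_mul_eq_one.1 h).symm)
    · refine Or.inr ?_
      rw [inv_mul_eq_iff_eq_mul] at h
      have h' := congrArg Subtype.val h
      simp only [Submonoid.coe_mul, negOne] at h'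
      rw [h', mul_neg, mul_one]
  let K := AlgebraicClosure F
  have hn1 : ∀ x : Module.End K (Fin m ⊕ Fin m → K), (-1 : K) • x = -x := fun x => neg_one_smul K x
  obtain ⟨i, hi⟩ := IsAlgClosed.exists_eq_mul_self (-1 : K)
  have hi' : i * i = -1 := hi.symm
  have h2K : (2 : K) ≠ 0 := by
    have := (algebraMap F K).injective.ne h2
    simpa [map_ofNat] using this
  let T : Matrix (Fin m ⊕ Fin m) (Fin m ⊕ Fin m) F →+* Module.End K (Fin m ⊕ Fin m → K) :=
    (Matrix.toLinAlgEquiv' (R := K) (n := Fin m ⊕ Fin m)).toAlgHom.toRingHom.comp (algebraMap F K).mapMatrix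
  have hT : Function.Injective T :=
    (Matrix.toLinAlgEquiv' (R := K) (n := Fin m ⊕ Fin m)).injective.comp
      fun M N h => Matrix.map_injective (algebraMap F K).injective h
  let S : Set (Module.End K (Fin m ⊕ Fin m → K)) :=
    {z | z * z = 1 ∧ ∃ e ∈ E, z = T e.1 ∨ z = i • T e.1}
  have hneg : ∀ e ∈ E, e * negOne F m ∈ E ∧ T (e * negOne F m).1 = -T e.1 := fun e he => by
    refine ⟨?_, by simp [negOne]⟩
    show (QuotientGroup.mk (e * negOne F m) : Cfsg.PSp m F) ∈ A
    rw [QuotientGroup.mk_mul, (QuotientGroup.eq_one_iff _).2 negOne_mem_center, mul_one]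
    exact hEA e he
  have hmemS : ∀ e ∈ E, ∀ c : K, (c = 1 ∨ c = i ∨ c = -1 ∨ c = -i) → (c • T e.1) * (c • T e.1) = 1 →
      c • T e.1 ∈ S := by
    intro e he c hc h1
    refine ⟨h1, ?_⟩
    obtain ⟨hn, hn'⟩ := hneg e he
    rcases hc with rfl | rfl | rfl | rfl
    · exact ⟨e, he, Or.inl (one_smul _ _)⟩
    · exact ⟨e, he, Or.inr rfl⟩
    · exact ⟨_, hn, Or.inl ((neg_one_smul K (T e.1)).trans hn'.symm)⟩
    · exact ⟨_, hn, Or.inr ((neg_smul i (T e.1)).trans ((smul_neg i (T e.1)).symm.trans (congrArg (i • ·) hn'.symm)))⟩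
  have hSfin : S.Finite := by
    have : Finite E := inferInstance
    refine ((Set.finite_range fun e : E => T e.1.1).union (Set.finite_range fun e : E => i • T e.1.1)).subset ?_
    rintro z ⟨-, e, he, h | h⟩
    · exact Or.inl ⟨⟨e, he⟩, h.symm⟩
    · exact Or.inr ⟨⟨e, he⟩, h.symm⟩
  have hS : IsSignSet i S := by
    refine ⟨fun z hz => hz.1, ?_⟩
    rintro z ⟨hz, e, he, hze⟩ z' ⟨hz', e', he', hze'⟩
    have hze2 : ∃ c : K, (c = 1 ∨ c = i) ∧ z = c • T e.1 := by
      rcases hze with h | h
      · exact ⟨1, Or.inl rfl, by rw [one_smul]; exact h⟩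
      · exact ⟨i, Or.inr rfl, h⟩
    have hze2' : ∃ c : K, (c = 1 ∨ c = i) ∧ z' = c • T e'.1 := by
      rcases hze' with h | h
      · exact ⟨1, Or.inl rfl, by rw [one_smul]; exact h⟩
      · exact ⟨i, Or.inr rfl, h⟩
    obtain ⟨c, hc, rfl⟩ := hze2
    obtain ⟨c', hc', rfl⟩ := hze2'
    have hp : (c • T e.1) * (c' • T e'.1) = (c * c') • T (e * e').1 := by
      rw [smul_mul_smul_comm, Submonoid.coe_mul, map_mul]
    have hcc : (c * c' = 1 ∨ c * c' = i ∨ c * c' = -1 ∨ c * c' = -i) := by
      rcases hc with rfl | rfl <;> rcases hc' with rfl | rfl <;> simp [hi']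
    have hicc : (i * (c * c') = 1 ∨ i * (c * c') = i ∨ i * (c * c') = -1 ∨ i * (c * c') = -i) := by
      rcases hc with h | h <;> rcases hc' with h' | h' <;> rw [h, h']
      · right; left; ring
      · right; right; left; linear_combination hi'
      · right; right; left; linear_combination hi'
      · right; right; right; linear_combination i * hi'
    rcases hEcomm e he e' he' with h | h
    · have hzz : (c • T e.1) * (c' • T e'.1) = (c' • T e'.1) * (c • T e.1) := by
        rw [smul_mul_smul_comm, smul_mul_smul_comm, ← map_mul, ← map_mul, h, mul_comm c]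
      refine Or.inl ⟨hzz, ?_⟩
      rw [hp]
      refine hmemS _ (mul_mem he he') _ hcc ?_
      rw [← hp]
      rw [Commute.mul_mul_mul_comm hzz.symm, hz, hz', mul_one]
    · have hzz : (c • T e.1) * (c' • T e'.1) = -((c' • T e'.1) * (c • T e.1)) := by
        rw [smul_mul_smul_comm, smul_mul_smul_comm, ← map_mul, ← map_mul, h, mul_comm c, map_neg, smul_neg]
      refine Or.inr ⟨hzz, ?_⟩
      rw [hp, smul_smul]
      refine hmemS _ (mul_mem he he') _ hicc ?_
      rw [← smul_smul, ← hp]
      set x := c • T e.1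
      set y := c' • T e'.1
      have hyx : y * x = -(x * y) := by rw [hzz, neg_neg]
      have e1 : x * (y * x) * y = -(x * x * (y * y)) := calc
        x * (y * x) * y = x * -(x * y) * y := by rw [hyx]
        _ = -(x * (x * y)) * y := congrArg (· * y) (mul_neg x (x * y))
        _ = -(x * (x * y) * y) := neg_mul (x * (x * y)) y
        _ = -(x * x * (y * y)) := congrArg Neg.neg (by rw [mul_assoc, mul_assoc, mul_assoc])
      rw [smul_mul_smul_comm, hi', hn1]
      calc -(x * y * (x * y)) = -(x * (y * x) * y) := by rw [mul_assoc, mul_assoc, mul_assoc]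
        _ = x * x * (y * y) := (congrArg Neg.neg e1).trans (neg_neg _)
        _ = 1 := by rw [hz, hz', mul_one]
  -- every member of the preimage gives a member of the sign set
  let f : E → S := fun e => if h : e.1.1 * e.1.1 = 1 then
      ⟨T e.1.1, ⟨by rw [← map_mul, h, map_one], e.1, e.2, Or.inl rfl⟩⟩
    else ⟨i • T e.1.1, ⟨by
      rw [smul_mul_smul_comm, ← map_mul, (hEsq e.1 e.2).resolve_left h, hi', map_neg, map_one, hn1]
      exact neg_neg _, e.1, e.2, Or.inr rfl⟩⟩
  have hbad : ∀ e e' : E, T e.1.1 ≠ i • T e'.1.1 := by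
    intro e e' h
    have hg : T (e.1 * e'.1⁻¹).1 = i • 1 := by
      rw [Submonoid.coe_mul, map_mul, h, smul_mul_assoc, ← map_mul, ← Submonoid.coe_mul, mul_inv_cancel,
        Submonoid.coe_one, map_one]
    have hcen : e.1 * e'.1⁻¹ ∈ Subgroup.center G := Subgroup.mem_center_iff.2 fun g => Subtype.ext (hT (by
      have e1 : T g.1 * T (e.1 * e'.1⁻¹).1 = T (e.1 * e'.1⁻¹).1 * T g.1 := by
        rw [hg, mul_smul_comm, smul_mul_assoc, mul_one, one_mul]
      rw [← map_mul, ← map_mul] at e1
      exact e1))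
    have hsq1 : (e.1 * e'.1⁻¹) * (e.1 * e'.1⁻¹) = 1 := by
      rcases center_cases hodd hm1 hcen with h' | h' <;> rw [h']
      · exact mul_one 1
      · exact Subtype.ext (by simp [negOne])
    have := congrArg (fun g : G => T g.1) hsq1
    simp only [Submonoid.coe_mul, map_mul, Submonoid.coe_one, map_one] at this
    rw [← map_mul, ← Submonoid.coe_mul, hg, smul_mul_smul_comm, hi', mul_one] at this
    have h0 : (1 : Module.End K (Fin m ⊕ Fin m → K)) = 0 := by
      have h'' : (2 : K) • (1 : Module.End K (Fin m ⊕ Fin m → K)) = 0 := by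
        rw [hn1] at this
        rw [two_smul]; linear_combination (norm := abel) -this
      exact (smul_eq_zero.1 h'').resolve_left h2K
    haveI : Nonempty (Fin m ⊕ Fin m) := ⟨Sum.inl ⟨0, hm1⟩⟩
    exact one_ne_zero h0
  have hf : Function.Injective f := by
    intro e e' h
    have h' := congrArg Subtype.val h
    simp only [f] at h'
    split_ifs at h'
    · exact Subtype.ext (Subtype.ext (hT h'))
    · exact absurd h' (hbad e e')
    · exact absurd h'.symm (hbad e' e)
    · have hi0 : i ≠ 0 := fun h => by rw [h, mul_zero] at hi'; exact neg_ne_zero.2 one_ne_zero hi'.symm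
      exact Subtype.ext (Subtype.ext (hT (smul_right_injective _ hi0 h')))
  have hdim : finrank K (Fin m ⊕ Fin m → K) = 2 * m := by simp [two_mul]
  have hle := (ncard_le h2K hi' (2 * m) S hSfin hdim hS).2 (Or.inr (by omega))
  haveI : Finite S := hSfin.to_subtype
  have hE : Nat.card E ≤ 2 ^ (2 * m) := by
    refine (Nat.card_le_card_of_injective f hf).trans ?_
    rwa [Nat.card_coe_set_eq]
  have hcardE : Nat.card E = 2 * Nat.card A := by
    have hc : Nat.card (Subgroup.center G) = 2 := by
      rw [Classical.card_center_symplectic hm1]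
      obtain ⟨r, hr⟩ := hodd
      exact Nat.gcd_eq_left ⟨r, by omega⟩
    rw [← hc, ← Nat.card_prod]
    exact Nat.card_congr (QuotientGroup.preimageMkEquivSubgroupProdSet (Subgroup.center G) (A : Set (Cfsg.PSp m F)))
  have : 0 < Nat.card A := Nat.card_pos
  omega

end Cfsg.Agent.Fg24.SignSets
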